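import Mathlib

/-!
# Criteria for freeness / finite presentation after inverting one element

`FreeAway f M`: there is a free module `F` and a map `F → M` whose kernel and cokernel are
`f`-power torsion.  This implies that `M_f` is free over `R_f`.
-/

universe u

namespace Groth.Agent.Lib.Helper24.GenFreeRed

open Function

section Free

variable {R : Type u} [CommRing R]

/-- `M` becomes free after inverting `f` (criterion form). -/
def FreeAway (f : R) (M : Type u) [AddCommGroup M] [Module R M] : Prop :=
  ∃ (F : Type u) (_ : AddCommGroup F) (_ : Module R F) (_ : Module.Free R F) (ψ : F →ₗ[R] M),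
    (∀ m : M, ∃ (k : ℕ) (c : F), f ^ k • m = ψ c) ∧ (∀ c : F, ψ c = 0 → ∃ k : ℕ, f ^ k • c = 0)

variable {f : R} {M : Type u} [AddCommGroup M] [Module R M]

theorem FreeAway.free (h : FreeAway f M) :
    Module.Free (Localization.Away f) (LocalizedModule (Submonoid.powers f) M) := by
  obtain ⟨F, _, _, _, ψ, hspan, hker⟩ := h
  let S := Submonoid.powers f
  let g : F →ₗ[R] LocalizedModule S M := (LocalizedModule.mkLinearMap S M) ∘ₗ ψ
  have hg : IsLocalizedModule S g := by
    refine ⟨IsLocalizedModule.map_units (LocalizedModule.mkLinearMap S M), ?_, ?_⟩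
    · intro y
      induction y using LocalizedModule.induction_on with
      | h m s =>
        obtain ⟨k, c, hc⟩ := hspan m
        refine ⟨(c, ⟨f ^ k, k, rfl⟩ * s), ?_⟩
        change (⟨f ^ k, k, rfl⟩ * s : S) • LocalizedModule.mk m s = LocalizedModule.mk (ψ c) 1
        rw [← hc, Submonoid.smul_def, LocalizedModule.smul'_mk, LocalizedModule.mk_eq]
        refine ⟨1, ?_⟩
        simp only [one_smul, Submonoid.coe_mul, mul_smul, Submonoid.smul_def]
        rw [smul_comm]
    · intro x₁ x₂ h12
      have h12' : LocalizedModule.mk (ψ x₁) (1 : S) = LocalizedModule.mk (ψ x₂) 1 := h12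
      rw [LocalizedModule.mk_eq] at h12'
      obtain ⟨u, hu⟩ := h12'
      simp only [one_smul] at hu
      have h0 : ψ (u • (x₁ - x₂)) = 0 := by
        rw [LinearMap.map_smul_of_tower, map_sub, smul_sub, hu, sub_self]
      obtain ⟨k, hk⟩ := hker _ h0
      refine ⟨⟨f ^ k, k, rfl⟩ * u, ?_⟩
      rw [← sub_eq_zero, ← smul_sub, mul_smul]
      exact hk
  exact Module.free_of_isLocalizedModule S g

theorem FreeAway.of_subsingleton [Subsingleton M] : FreeAway f M :=
  ⟨PUnit, inferInstance, inferInstance, inferInstance, 0,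
    fun m => ⟨0, 0, by simp [Subsingleton.elim m 0]⟩, fun c _ => ⟨0, Subsingleton.elim _ _⟩⟩

theorem FreeAway.of_exact {M' M'' : Type u} [AddCommGroup M'] [Module R M'] [AddCommGroup M'']
    [Module R M''] (i : M' →ₗ[R] M) (p : M →ₗ[R] M'') (hi : Injective i) (hp : Surjective p)
    (hex : Function.Exact i p) (h' : FreeAway f M') (h'' : FreeAway f M'') : FreeAway f M := by
  obtain ⟨F', _, _, _, ψ', hspan', hker'⟩ := h'
  obtain ⟨F'', _, _, _, ψ'', hspan'', hker''⟩ := h''
  obtain ⟨ψt, hψt⟩ := Module.projective_lifting_property p ψ'' hp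
  have hψt' : ∀ c, p (ψt c) = ψ'' c := fun c => LinearMap.congr_fun hψt c
  have hpi : ∀ x, p (i x) = 0 := fun x => (hex (i x)).2 ⟨x, rfl⟩
  refine ⟨F' × F'', inferInstance, inferInstance, inferInstance,
    (i ∘ₗ ψ').coprod ψt, ?_, ?_⟩
  · intro m
    obtain ⟨k, c'', hc''⟩ := hspan'' (p m)
    have h0 : p (f ^ k • m - ψt c'') = 0 := by
      rw [map_sub, map_smul, hψt', hc'', sub_self]
    obtain ⟨m', hm'⟩ := (hex _).1 h0
    obtain ⟨l, c', hc'⟩ := hspan' m'
    refine ⟨l + k, (c', f ^ l • c''), ?_⟩
    simp only [LinearMap.coprod_apply, LinearMap.comp_apply, map_smul]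
    rw [← hc', map_smul, hm', smul_sub, pow_add, mul_smul]
    abel
  · rintro ⟨c', c''⟩ h0
    simp only [LinearMap.coprod_apply, LinearMap.comp_apply] at h0
    have h1 : ψ'' c'' = 0 := by
      have := congrArg p h0
      rwa [map_add, hpi, zero_add, hψt', map_zero] at this
    obtain ⟨k, hk⟩ := hker'' _ h1
    have h2 : i (ψ' (f ^ k • c')) = 0 := by
      have := congrArg (fun x => f ^ k • x) h0
      simp only [smul_add, smul_zero] at this
      rwa [← map_smul, ← map_smul, ← map_smul, hk, map_zero, add_zero] at this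
    have h3 : ψ' (f ^ k • c') = 0 := hi (by rw [h2, map_zero])
    obtain ⟨l, hl⟩ := hker' _ h3
    refine ⟨l + k, ?_⟩
    rw [Prod.smul_mk, pow_add, mul_smul, hl, mul_smul, hk, smul_zero]
    rfl

theorem FreeAway.of_linearEquiv {N : Type u} [AddCommGroup N] [Module R N] (e : M ≃ₗ[R] N)
    (h : FreeAway f M) : FreeAway f N := by
  obtain ⟨F, _, _, _, ψ, hspan, hker⟩ := h
  refine ⟨F, inferInstance, inferInstance, inferInstance, e.toLinearMap ∘ₗ ψ, ?_, ?_⟩
  · intro n
    obtain ⟨k, c, hc⟩ := hspan (e.symm n)
    refine ⟨k, c, ?_⟩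
    simp only [LinearMap.comp_apply, LinearEquiv.coe_coe, ← hc, map_smul, LinearEquiv.apply_symm_apply]
  · intro c hc
    exact hker c (by simpa using hc)

end Free

section FP

variable {S : Type u} [CommRing S]

/-- `M_g` is finitely presented over `S_g`. -/
def FPAway (g : S) (M : Type u) [AddCommGroup M] [Module S M] : Prop :=
  Module.FinitePresentation (Localization.Away g) (LocalizedModule (Submonoid.powers g) M)

/-- the ideal `J` is finitely generated up to `g`-power torsion. -/
def FGAway (g : S) (J : Ideal S) : Prop :=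
  ∃ G : Finset S, (∀ x ∈ G, x ∈ J) ∧ ∀ p ∈ J, ∃ k : ℕ, g ^ k * p ∈ Ideal.span (G : Set S)

variable {g : S} {M : Type u} [AddCommGroup M] [Module S M]

theorem FPAway.of_subsingleton [Subsingleton M] : FPAway g M := by
  unfold FPAway
  infer_instance

theorem FPAway.of_exact {M' M'' : Type u} [AddCommGroup M'] [Module S M'] [AddCommGroup M'']
    [Module S M''] (i : M' →ₗ[S] M) (p : M →ₗ[S] M'') (hi : Injective i) (hp : Surjective p)
    (hex : Function.Exact i p) (h' : FPAway g M') (h'' : FPAway g M'') : FPAway g M := by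
  unfold FPAway at *
  let T := Submonoid.powers g
  let iL := LocalizedModule.map T i
  let pL := LocalizedModule.map T p
  have hiL : Injective iL := LocalizedModule.map_injective T i hi
  have hpL : Surjective pL := LocalizedModule.map_surjective T p hp
  have hexL : Function.Exact iL pL := LocalizedModule.map_exact T i p hex
  have hker : LinearMap.ker pL = LinearMap.range iL := LinearMap.exact_iff.mp hexL
  have : Module.FinitePresentation (Localization T) (LocalizedModule T M'') := h''
  have : Module.FinitePresentation (Localization T) (LocalizedModule T M') := h'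
  have : Module.FinitePresentation (Localization T) (LinearMap.ker pL) := by
    rw [hker]
    exact Module.FinitePresentation.of_equiv (LinearEquiv.ofInjective iL hiL)
  exact Module.finitePresentation_of_ker pL hpL

theorem FGAway.fpAway {J : Ideal S} (h : FGAway g J) : FPAway g (S ⧸ J) := by
  obtain ⟨G, hGJ, hG⟩ := h
  unfold FPAway
  let T := Submonoid.powers g
  let I₀ : Ideal S := Ideal.span (G : Set S)
  have hI₀J : I₀ ≤ J := Ideal.span_le.mpr hGJ
  have : Module.FinitePresentation S (S ⧸ I₀) :=
    Module.finitePresentation_of_surjective (Submodule.mkQ I₀) (Submodule.mkQ_surjective I₀)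
      (by rw [Submodule.ker_mkQ]; exact ⟨G, rfl⟩)
  let q : (S ⧸ I₀) →ₗ[S] (S ⧸ J) := Submodule.mapQ I₀ J LinearMap.id (by simpa using hI₀J)
  have hq : Surjective q := by
    intro y
    obtain ⟨x, rfl⟩ := Submodule.mkQ_surjective J y
    exact ⟨Submodule.mkQ I₀ x, rfl⟩
  let qL := LocalizedModule.map T q
  have hqL : Surjective qL := LocalizedModule.map_surjective T q hq
  have hqLinj : Injective qL := by
    rw [← LinearMap.ker_eq_bot, LinearMap.ker_eq_bot']
    intro x hx
    induction x using LocalizedModule.induction_on with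
    | h m s =>
      obtain ⟨m, rfl⟩ := Submodule.mkQ_surjective I₀ m
      have hx' : LocalizedModule.mk (q (Submodule.mkQ I₀ m)) s = 0 := by
        rw [← LocalizedModule.map_mk]; exact hx
      rw [← LocalizedModule.zero_mk s, LocalizedModule.mk_eq] at hx'
      obtain ⟨u, hu⟩ := hx'
      simp only [smul_zero] at hu
      obtain ⟨j, hj⟩ := u.2
      obtain ⟨j', hj'⟩ := s.2
      have h1 : (u : S) * (s : S) * m ∈ J := by
        have : q (Submodule.mkQ I₀ m) = Submodule.mkQ J m := rfl
        rw [this] at hu
        have h2 : Submodule.mkQ J ((u : S) * ((s : S) * m)) = 0 := by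
          rw [← smul_eq_mul, ← smul_eq_mul, map_smul, map_smul]
          exact hu
        rw [mul_assoc]
        rwa [Submodule.mkQ_apply, Submodule.Quotient.mk_eq_zero] at h2
      obtain ⟨k, hk⟩ := hG _ h1
      rw [← LocalizedModule.zero_mk s, LocalizedModule.mk_eq]
      refine ⟨⟨g ^ k, k, rfl⟩ * u * s, ?_⟩
      simp only [smul_zero]
      rw [Submonoid.smul_def, Submonoid.smul_def, ← map_smul, ← map_smul, smul_eq_mul, smul_eq_mul]
      simp only [Submonoid.coe_mul]
      rw [Submodule.mkQ_apply, Submodule.Quotient.mk_eq_zero]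
      have : g ^ k * (u : S) * (s : S) * ((s : S) * m) = (s : S) * (g ^ k * ((u : S) * (s : S) * m)) := by
        ring
      rw [this]
      exact Ideal.mul_mem_left _ _ hk
  exact Module.FinitePresentation.of_equiv (LinearEquiv.ofBijective qL ⟨hqLinj, hqL⟩)

end FP

end Groth.Agent.Lib.Helper24.GenFreeRed
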