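import Mathlib
import Groth.Agent.Lib.Helper24.GenFreeRed.Crit

/-!
# Leading-coefficient ideals and generic freeness of `R[x]/J` over a reduced ring
-/

universe u

namespace Groth.Agent.Lib.Helper24.GenFreeRed

open MvPolynomial Function

variable {σ : Type} (m : MonomialOrder σ) {R : Type u} [CommRing R]

/-- Coefficients at `α` of the elements of `J` all of whose monomials are `≤ α`. -/
def lcSet (J : Ideal (MvPolynomial σ R)) (α : σ →₀ ℕ) : Set R :=
  {a | ∃ p ∈ J, (∀ β ∈ p.support, m.toSyn β ≤ m.toSyn α) ∧ p.coeff α = a}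

variable {m}

lemma lcSet_mul {J : Ideal (MvPolynomial σ R)} {α : σ →₀ ℕ} {a : R} (r : R)
    (ha : a ∈ lcSet m J α) : r * a ∈ lcSet m J α := by
  obtain ⟨p, hpJ, hp, rfl⟩ := ha
  refine ⟨C r * p, J.mul_mem_left _ hpJ, ?_, coeff_C_mul _ _ _⟩
  intro β hβ
  apply hp
  rw [mem_support_iff] at hβ ⊢
  intro h0
  exact hβ (by rw [coeff_C_mul, h0, mul_zero])

lemma monomial_mul_support_le {p : MvPolynomial σ R} {α β : σ →₀ ℕ}
    (hp : ∀ γ ∈ p.support, m.toSyn γ ≤ m.toSyn α) :
    ∀ γ ∈ (monomial β (1 : R) * p).support, m.toSyn γ ≤ m.toSyn (β + α) := by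
  intro γ hγ
  rw [mem_support_iff, coeff_monomial_mul'] at hγ
  split_ifs at hγ with hle
  · rw [one_mul] at hγ
    have h1 := hp (γ - β) (mem_support_iff.mpr hγ)
    have h2 : γ = β + (γ - β) := (add_tsub_cancel_of_le hle).symm
    rw [h2, map_add, map_add]
    exact add_le_add_right h1 _
  · exact absurd rfl hγ

lemma lcSet_add {J : Ideal (MvPolynomial σ R)} {α : σ →₀ ℕ} {a : R} (β : σ →₀ ℕ)
    (ha : a ∈ lcSet m J α) : a ∈ lcSet m J (β + α) := by
  obtain ⟨p, hpJ, hp, rfl⟩ := ha
  refine ⟨monomial β 1 * p, J.mul_mem_left _ hpJ, monomial_mul_support_le hp, ?_⟩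
  rw [coeff_monomial_mul, one_mul]

variable (m)

/-- Monomials at which a power of `f` is a leading coefficient. -/
def Lam (f : R) (J : Ideal (MvPolynomial σ R)) : Set (σ →₀ ℕ) :=
  {α | ∃ k : ℕ, f ^ k ∈ lcSet m J α}

/-- After inverting `f`, every leading coefficient ideal is `0` or everything. -/
def Mono (f : R) (J : Ideal (MvPolynomial σ R)) : Prop :=
  ∀ α, α ∈ Lam m f J ∨ ∀ a ∈ lcSet m J α, f * a = 0

variable {m}

lemma Lam_upper {f : R} {J : Ideal (MvPolynomial σ R)} {α α' : σ →₀ ℕ} (hα : α ∈ Lam m f J)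
    (hle : α ≤ α') : α' ∈ Lam m f J := by
  obtain ⟨k, hk⟩ := hα
  refine ⟨k, ?_⟩
  have := lcSet_add (α' - α) hk
  rwa [tsub_add_cancel_of_le hle] at this

lemma Lam_mul {f : R} {J : Ideal (MvPolynomial σ R)} (h : R) : Lam m f J ⊆ Lam m (f * h) J := by
  rintro α ⟨k, hk⟩
  refine ⟨k, ?_⟩
  rw [mul_pow, mul_comm]
  exact lcSet_mul _ hk

lemma Mono.mul {f : R} {J : Ideal (MvPolynomial σ R)} (hm : Mono m f J) (h : R) :
    Mono m (f * h) J := by
  intro α
  rcases hm α with h1 | h1
  · exact Or.inl (Lam_mul h h1)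
  · refine Or.inr fun a ha => ?_
    rw [mul_assoc, mul_comm h, ← mul_assoc, h1 a ha, zero_mul]

/-- the monomial ideal in `ℚ[x]` attached to a set of exponents -/
noncomputable def monIdeal (Λ : Set (σ →₀ ℕ)) : Ideal (MvPolynomial σ ℚ) :=
  Ideal.span ((fun s => monomial s (1 : ℚ)) '' Λ)

lemma exists_le_of_monomial_mem_monIdeal {Λ : Set (σ →₀ ℕ)} {α : σ →₀ ℕ}
    (h : monomial α (1 : ℚ) ∈ monIdeal Λ) : ∃ α₀ ∈ Λ, α₀ ≤ α := by
  classical
  unfold monIdeal at h
  rw [mem_ideal_span_monomial_image] at h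
  exact h α (by rw [mem_support_iff, coeff_monomial, if_pos rfl]; exact one_ne_zero)

lemma monomial_mem_monIdeal {Λ : Set (σ →₀ ℕ)} {α : σ →₀ ℕ} (h : α ∈ Λ) :
    monomial α (1 : ℚ) ∈ monIdeal Λ :=
  Ideal.subset_span ⟨α, h, rfl⟩

theorem exists_mono [Finite σ] [IsReduced R] (J : Ideal (MvPolynomial σ R)) (g : R)
    (hg : ¬ IsNilpotent g) : ∃ h : R, ¬ IsNilpotent (g * h) ∧ Mono m (g * h) J := by
  let 𝒮 : Set (Ideal (MvPolynomial σ ℚ)) :=
    {I | ∃ h : R, ¬ IsNilpotent (g * h) ∧ I = monIdeal (Lam m (g * h) J)}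
  have hne : 𝒮.Nonempty := ⟨_, 1, by rwa [mul_one], rfl⟩
  obtain ⟨I, ⟨h₀, hh₀, rfl⟩, hmax⟩ :=
    (set_has_maximal_iff_noetherian (R := MvPolynomial σ ℚ) (M := MvPolynomial σ ℚ)).mpr
      inferInstance 𝒮 hne
  refine ⟨h₀, hh₀, ?_⟩
  intro α
  by_contra hcon
  push Not at hcon
  obtain ⟨hα, a, ha, hfa⟩ := hcon
  have hnil : ¬ IsNilpotent (g * (h₀ * a)) := by
    intro hn
    exact hfa (by rw [← mul_assoc] at hn; exact hn.eq_zero)
  have hle : monIdeal (Lam m (g * h₀) J) ≤ monIdeal (Lam m (g * (h₀ * a)) J) := by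
    apply Ideal.span_mono
    apply Set.image_mono
    rw [← mul_assoc]
    exact Lam_mul a
  have hnlt := hmax _ ⟨h₀ * a, hnil, rfl⟩
  have heq : monIdeal (Lam m (g * (h₀ * a)) J) ≤ monIdeal (Lam m (g * h₀) J) := by
    by_contra hcon2
    exact hnlt (lt_of_le_not_ge hle hcon2)
  have hαmem : α ∈ Lam m (g * (h₀ * a)) J := by
    refine ⟨1, ?_⟩
    rw [pow_one, ← mul_assoc]
    exact lcSet_mul _ ha
  obtain ⟨α₀, hα₀, hle0⟩ := exists_le_of_monomial_mem_monIdeal (heq (monomial_mem_monIdeal hαmem))
  exact hα (Lam_upper hα₀ hle0)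

/-- induction on the largest monomial -/
theorem induction_supp (Q : MvPolynomial σ R → Prop) (h0 : Q 0)
    (step : ∀ (α : σ →₀ ℕ) (p : MvPolynomial σ R),
      (∀ β ∈ p.support, m.toSyn β ≤ m.toSyn α) →
      (∀ p' : MvPolynomial σ R, (∀ β ∈ p'.support, m.toSyn β < m.toSyn α) → Q p') → Q p) :
    ∀ p, Q p := by
  have key : ∀ s : m.syn, ∀ α, m.toSyn α = s → ∀ p : MvPolynomial σ R,
      (∀ β ∈ p.support, m.toSyn β ≤ m.toSyn α) → Q p := by
    intro s
    induction s using WellFoundedLT.induction with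
    | ind s ih =>
      intro α hα p hp
      refine step α p hp ?_
      intro p' hp'
      by_cases hp0 : p' = 0
      · rw [hp0]; exact h0
      · have hd := m.degree_mem_support hp0
        exact ih _ (hα ▸ hp' _ hd) (m.degree p') rfl p' (fun β hβ => m.le_degree hβ)
  intro p
  exact key _ (m.degree p) rfl p (fun β hβ => m.le_degree hβ)

lemma supp_lt_of {p : MvPolynomial σ R} {α : σ →₀ ℕ}
    (hle : ∀ β, p.coeff β ≠ 0 → m.toSyn β ≤ m.toSyn α) (h0 : p.coeff α = 0) :
    ∀ β ∈ p.support, m.toSyn β < m.toSyn α := by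
  intro β hβ
  rw [mem_support_iff] at hβ
  refine lt_of_le_of_ne (hle β hβ) ?_
  intro heq
  rw [m.toSyn.injective heq] at hβ
  exact hβ h0

section Free

variable {N : Type u} [AddCommGroup N] [Module R N]

theorem freeAway_of_mono (θ : MvPolynomial σ R →ₗ[R] N) (hθ : Surjective θ)
    (J : Ideal (MvPolynomial σ R)) (hker : ∀ p, θ p = 0 ↔ p ∈ J) (f : R) (hmono : Mono m f J) :
    FreeAway f N := by
  classical
  let B := {α : σ →₀ ℕ // α ∉ Lam m f J}
  let lift : (B →₀ R) →ₗ[R] MvPolynomial σ R :=
    Finsupp.linearCombination R (fun α : B => monomial α.1 (1 : R))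
  let ψ : (B →₀ R) →ₗ[R] N := θ ∘ₗ lift
  have hlift_single : ∀ (α : B) (r : R), lift (Finsupp.single α r) = monomial α.1 r := by
    intro α r
    simp only [lift, Finsupp.linearCombination_single, smul_monomial, smul_eq_mul, mul_one]
  have hcoeff1 : ∀ (c : B →₀ R) (α : B), (lift c).coeff α.1 = c α := by
    intro c α
    induction c using Finsupp.induction_linear with
    | zero => simp
    | add c₁ c₂ h₁ h₂ => rw [map_add, coeff_add, h₁, h₂, Finsupp.add_apply]
    | single β r =>
      rw [hlift_single, coeff_monomial, Finsupp.single_apply]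
      by_cases hβα : β = α
      · rw [if_pos hβα, if_pos (by rw [hβα])]
      · rw [if_neg hβα, if_neg (fun h => hβα (Subtype.ext h))]
  have hcoeff2 : ∀ (c : B →₀ R) (β : σ →₀ ℕ), β ∈ Lam m f J → (lift c).coeff β = 0 := by
    intro c β hβ
    induction c using Finsupp.induction_linear with
    | zero => simp
    | add c₁ c₂ h₁ h₂ => rw [map_add, coeff_add, h₁, h₂, add_zero]
    | single γ r =>
      rw [hlift_single, coeff_monomial, if_neg]
      intro h
      exact γ.2 (h ▸ hβ)
  refine ⟨B →₀ R, inferInstance, inferInstance, inferInstance, ψ, ?_, ?_⟩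
  · -- cokernel torsion
    have hP : ∀ p : MvPolynomial σ R, ∃ (k : ℕ) (c : B →₀ R), f ^ k • θ p = ψ c := by
      apply induction_supp (m := m)
      · exact ⟨0, 0, by simp⟩
      · intro α p hp ih
        by_cases hα : α ∈ Lam m f J
        · obtain ⟨k, q, hqJ, hq, hqc⟩ := hα
          have hθq : θ q = 0 := (hker q).2 hqJ
          let p' := C (f ^ k) * p - C (p.coeff α) * q
          have hp' : ∀ β ∈ p'.support, m.toSyn β < m.toSyn α := by
            apply supp_lt_of
            · intro β hβ
              by_cases h1 : p.coeff β = 0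
              · by_cases h2 : q.coeff β = 0
                · exfalso; apply hβ
                  simp only [p', coeff_sub, coeff_C_mul, h1, h2, mul_zero, sub_zero]
                · exact hq β (mem_support_iff.mpr h2)
              · exact hp β (mem_support_iff.mpr h1)
            · simp only [p', coeff_sub, coeff_C_mul, hqc]
              ring
          obtain ⟨j, c, hc⟩ := ih p' hp'
          refine ⟨j + k, c, ?_⟩
          rw [← hc]
          simp only [p', map_sub, C_mul', map_smul, hθq, smul_zero, sub_zero]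
          rw [pow_add, mul_smul]
        · let p' := p - monomial α (p.coeff α)
          have hp' : ∀ β ∈ p'.support, m.toSyn β < m.toSyn α := by
            apply supp_lt_of
            · intro β hβ
              by_cases h1 : p.coeff β = 0
              · exfalso; apply hβ
                simp only [p', coeff_sub, h1, coeff_monomial, zero_sub, neg_eq_zero]
                split_ifs with h2
                · rw [h2]; exact h1
                · rfl
              · exact hp β (mem_support_iff.mpr h1)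
            · simp only [p', coeff_sub, coeff_monomial, if_pos, sub_self]
          obtain ⟨j, c, hc⟩ := ih p' hp'
          refine ⟨j, c + Finsupp.single ⟨α, hα⟩ (f ^ j * p.coeff α), ?_⟩
          have hpp : p = p' + monomial α (p.coeff α) := by simp only [p', sub_add_cancel]
          rw [map_add, ← hc]
          change _ = _ + θ (lift _)
          rw [hlift_single]
          conv_lhs => rw [hpp]
          rw [map_add, smul_add, ← map_smul, ← map_smul, ← map_smul, smul_eq_mul]
    intro n
    obtain ⟨p, rfl⟩ := hθ n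
    exact hP p
  · -- kernel torsion
    have hP : ∀ p : MvPolynomial σ R, p ∈ J → (∀ β ∈ Lam m f J, p.coeff β = 0) →
        ∃ k : ℕ, f ^ k • p = 0 := by
      apply induction_supp (m := m)
      · intro _ _; exact ⟨0, by simp⟩
      · intro α p hp ih hpJ hpL
        by_cases hα : α ∈ Lam m f J
        · exact ih p (supp_lt_of (fun β hβ => hp β (mem_support_iff.mpr hβ)) (hpL α hα)) hpJ hpL
        · have hfa : f * p.coeff α = 0 := by
            rcases hmono α with h1 | h1
            · exact absurd h1 hα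
            · exact h1 _ ⟨p, hpJ, hp, rfl⟩
          have hp' : ∀ β ∈ (f • p).support, m.toSyn β < m.toSyn α := by
            apply supp_lt_of
            · intro β hβ
              apply hp β
              rw [mem_support_iff]
              intro h0
              apply hβ
              rw [coeff_smul, h0, smul_zero]
            · rw [coeff_smul, smul_eq_mul, hfa]
          obtain ⟨k, hk⟩ := ih (f • p) hp' (by rw [smul_eq_C_mul]; exact J.mul_mem_left _ hpJ)
            (fun β hβ => by rw [coeff_smul, hpL β hβ, smul_zero])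
          exact ⟨k + 1, by rw [pow_succ, mul_smul]; exact hk⟩
    intro c hc
    have hcJ : lift c ∈ J := (hker _).1 hc
    obtain ⟨k, hk⟩ := hP (lift c) hcJ (fun β hβ => hcoeff2 c β hβ)
    refine ⟨k, ?_⟩
    ext α
    rw [Finsupp.smul_apply, Finsupp.zero_apply, ← hcoeff1 c α, ← coeff_smul, hk, coeff_zero]

end Free

theorem fgAway_of_mono [Finite σ] (J : Ideal (MvPolynomial σ R)) (f : R) (hmono : Mono m f J) :
    FGAway (C f : MvPolynomial σ R) J := by
  classical
  let Λ := Lam m f J
  -- a finite generating set of the monomial ideal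
  have hfg : (monIdeal Λ).FG := (isNoetherian_def.mp inferInstance) _
  obtain ⟨T, hTsub, hTspan⟩ := (Submodule.fg_span_iff_fg_span_finset_subset _).mp hfg
  obtain ⟨Λ₀, hΛ₀, hΛ₀T⟩ := Finset.subset_set_image_iff.mp hTsub
  have hgen : ∀ α ∈ Λ, ∃ α₀ ∈ Λ₀, α₀ ≤ α := by
    intro α hα
    have h1 : monomial α (1 : ℚ) ∈ monIdeal (Λ₀ : Set (σ →₀ ℕ)) := by
      have h2 := monomial_mem_monIdeal hα
      unfold monIdeal at h2 ⊢
      change _ ∈ Submodule.span _ _ at h2
      rw [hTspan, ← hΛ₀T, Finset.coe_image] at h2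
      exact h2
    obtain ⟨α₀, hα₀, hle⟩ := exists_le_of_monomial_mem_monIdeal h1
    exact ⟨α₀, hα₀, hle⟩
  have hch : ∀ α ∈ Λ, ∃ (k : ℕ) (q : MvPolynomial σ R), q ∈ J ∧
      (∀ β ∈ q.support, m.toSyn β ≤ m.toSyn α) ∧ q.coeff α = f ^ k := fun α hα => hα
  choose! kf qf hqJ hqs hqc using hch
  refine ⟨Λ₀.image qf, ?_, ?_⟩
  · intro x hx
    obtain ⟨α₀, hα₀, rfl⟩ := Finset.mem_image.mp hx
    exact hqJ α₀ (hΛ₀ hα₀)
  · apply induction_supp (m := m)
    · intro _; exact ⟨0, by simp⟩
    · intro α p hp ih hpJ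
      by_cases hα : α ∈ Λ
      · obtain ⟨α₀, hα₀, hle⟩ := hgen α hα
        have hα₀Λ : α₀ ∈ Λ := hΛ₀ hα₀
        set β := α - α₀ with hβ
        have hαeq : β + α₀ = α := tsub_add_cancel_of_le hle
        let q := qf α₀
        let k := kf α₀
        let p' := C (f ^ k) * p - C (p.coeff α) * (monomial β 1 * q)
        have hp'J : p' ∈ J :=
          J.sub_mem (J.mul_mem_left _ hpJ) (J.mul_mem_left _ (J.mul_mem_left _ (hqJ α₀ hα₀Λ)))
        have hp' : ∀ γ ∈ p'.support, m.toSyn γ < m.toSyn α := by
          apply supp_lt_of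
          · intro γ hγ
            by_cases h1 : p.coeff γ = 0
            · by_cases h2 : (monomial β (1 : R) * q).coeff γ = 0
              · exfalso; apply hγ
                simp only [p', coeff_sub, coeff_C_mul, h1, h2, mul_zero, sub_zero]
              · have := monomial_mul_support_le (m := m) (β := β) (hqs α₀ hα₀Λ) γ
                  (mem_support_iff.mpr h2)
                rwa [hαeq] at this
            · exact hp γ (mem_support_iff.mpr h1)
          · have hc : (monomial β (1 : R) * q).coeff α = f ^ k := by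
              rw [← hαeq, coeff_monomial_mul, one_mul]
              exact hqc α₀ hα₀Λ
            simp only [p', coeff_sub, coeff_C_mul, hc]
            ring
        obtain ⟨j, hj⟩ := ih p' hp' hp'J
        refine ⟨j + k, ?_⟩
        have hq_mem : q ∈ Ideal.span ((Λ₀.image qf : Finset (MvPolynomial σ R)) :
            Set (MvPolynomial σ R)) :=
          Ideal.subset_span (Finset.mem_coe.mpr (Finset.mem_image_of_mem qf hα₀))
        have : C f ^ (j + k) * p = C f ^ j * p' + C f ^ j * (C (p.coeff α) * (monomial β 1 * q)) := by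
          simp only [p', map_pow]
          ring
        rw [this]
        refine Ideal.add_mem _ hj ?_
        exact Ideal.mul_mem_left _ _ (Ideal.mul_mem_left _ _ (Ideal.mul_mem_left _ _ hq_mem))
      · have hfa : f * p.coeff α = 0 := by
          rcases hmono α with h1 | h1
          · exact absurd h1 hα
          · exact h1 _ ⟨p, hpJ, hp, rfl⟩
        have hp' : ∀ β ∈ (C f * p).support, m.toSyn β < m.toSyn α := by
          apply supp_lt_of
          · intro β hβ
            apply hp β
            rw [mem_support_iff]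
            intro h0
            apply hβ
            rw [coeff_C_mul, h0, mul_zero]
          · rw [coeff_C_mul, hfa]
        obtain ⟨j, hj⟩ := ih (C f * p) hp' (J.mul_mem_left _ hpJ)
        exact ⟨j + 1, by rw [pow_succ, mul_assoc]; exact hj⟩

end Groth.Agent.Lib.Helper24.GenFreeRed
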