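import Mathlib
import Groth.Agent.Lib.Helper24.GenFreeRed.Grob

/-!
# Generic freeness over a reduced ring (Stacks 051Z-type statement)
-/

universe u

namespace Groth.Agent.Lib.Helper24.GenFreeRed

open MvPolynomial Function

section Ideals

variable (R S : Type u) [CommRing R] [CommRing S] [Algebra R S]

theorem exists_ideals : ∀ (k : ℕ) (M : Type u) [AddCommGroup M] [Module S M] [Module R M]
    [IsScalarTower R S M] (s : Fin k → M) (_ : Submodule.span S (Set.range s) = ⊤),
    ∃ l : List (Ideal S), ∀ f : R,
      (∀ J ∈ l, FreeAway f (S ⧸ J) ∧ FGAway (algebraMap R S f) J) →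
        FreeAway f M ∧ FPAway (algebraMap R S f) M := by
  intro k
  induction k with
  | zero =>
    intro M _ _ _ _ s hs
    have : Subsingleton M := by
      rw [← Submodule.subsingleton_iff S, ← subsingleton_iff_bot_eq_top, ← hs]
      simp
    exact ⟨[], fun f _ => ⟨FreeAway.of_subsingleton, FPAway.of_subsingleton⟩⟩
  | succ k ih =>
    intro M _ _ _ _ s hs
    let x := s 0
    let φ : S →ₗ[S] M := LinearMap.toSpanSingleton S M x
    let J : Ideal S := LinearMap.ker φ
    let N : Submodule S M := LinearMap.range φ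
    let i : (S ⧸ J) →ₗ[S] M := Submodule.liftQ J φ le_rfl
    have hi : Injective i := by
      rw [← LinearMap.ker_eq_bot]
      exact Submodule.ker_liftQ_eq_bot' J φ rfl
    have hp : Surjective N.mkQ := Submodule.mkQ_surjective N
    have hex : Function.Exact i N.mkQ := by
      rw [LinearMap.exact_iff, Submodule.ker_mkQ, Submodule.range_liftQ]
    have hgen : Submodule.span S (Set.range (fun j : Fin k => N.mkQ (s j.succ))) = ⊤ := by
      rw [eq_top_iff]
      have h1 : Submodule.map N.mkQ (Submodule.span S (Set.range s)) ≤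
          Submodule.span S (Set.range (fun j : Fin k => N.mkQ (s j.succ))) := by
        rw [Submodule.map_span, Submodule.span_le]
        rintro _ ⟨_, ⟨j, rfl⟩, rfl⟩
        refine Fin.cases ?_ (fun j' => ?_) j
        · have : N.mkQ (s 0) = 0 := by
            rw [Submodule.mkQ_apply, Submodule.Quotient.mk_eq_zero]
            exact ⟨1, by simp [φ, x]⟩
          rw [this]
          exact Submodule.zero_mem _
        · exact Submodule.subset_span ⟨j', rfl⟩
      rw [hs, Submodule.map_top, Submodule.range_mkQ] at h1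
      exact h1
    obtain ⟨l, hl⟩ := ih (M ⧸ N) (fun j : Fin k => N.mkQ (s j.succ)) hgen
    refine ⟨J :: l, fun f hf => ?_⟩
    have hJ := hf J (List.mem_cons_self)
    have hl' := hl f (fun J' hJ' => hf J' (List.mem_cons_of_mem _ hJ'))
    refine ⟨?_, FPAway.of_exact i N.mkQ hi hp hex hJ.2.fpAway hl'.2⟩
    exact FreeAway.of_exact (i.restrictScalars R) (N.mkQ.restrictScalars R) hi hp hex hJ.1 hl'.1

end Ideals

section Transfer

variable {R S : Type u} [CommRing R] [CommRing S] [Algebra R S]

theorem exists_mono_list {σ : Type} [Finite σ] (m : MonomialOrder σ) [IsReduced R] :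
    ∀ (l : List (Ideal (MvPolynomial σ R))) (g : R), ¬ IsNilpotent g →
      ∃ h : R, ¬ IsNilpotent (g * h) ∧ ∀ J ∈ l, Mono m (g * h) J := by
  intro l
  induction l with
  | nil => intro g hg; exact ⟨1, by rwa [mul_one], fun J hJ => by simp at hJ⟩
  | cons J l ih =>
    intro g hg
    obtain ⟨h₁, hh₁, hl⟩ := ih g hg
    obtain ⟨h₂, hh₂, hJ⟩ := exists_mono (m := m) J (g * h₁) hh₁
    refine ⟨h₁ * h₂, by rwa [← mul_assoc], ?_⟩
    intro J' hJ'
    rw [← mul_assoc]
    rcases List.mem_cons.mp hJ' with rfl | hJ'
    · exact hJ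
    · exact (hl J' hJ').mul h₂

theorem FGAway.map {P : Type u} [CommRing P] (π : P →+* S) (hπ : Surjective π) {F : P}
    {J : Ideal S} (h : FGAway F (J.comap π)) : FGAway (π F) J := by
  classical
  obtain ⟨G, hGJ, hG⟩ := h
  refine ⟨G.image π, ?_, ?_⟩
  · intro x hx
    obtain ⟨y, hy, rfl⟩ := Finset.mem_image.mp hx
    exact hGJ y hy
  · intro p hp
    obtain ⟨p', rfl⟩ := hπ p
    obtain ⟨k, hk⟩ := hG p' hp
    refine ⟨k, ?_⟩
    have := Ideal.mem_map_of_mem π hk
    rw [Ideal.map_span, map_mul, map_pow] at this
    rwa [Finset.coe_image]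

theorem finitePresentation_awayMap {n : ℕ} (π : MvPolynomial (Fin n) R →ₐ[R] S)
    (hπ : Surjective π) (f : R)
    (h : FGAway (C f : MvPolynomial (Fin n) R)
      (RingHom.ker (π : MvPolynomial (Fin n) R →+* S))) :
    (Localization.awayMap (algebraMap R S) f).FinitePresentation := by
  obtain ⟨G, hGker, hG⟩ := h
  let P := MvPolynomial (Fin n) R
  let I₀ : Ideal P := Ideal.span (G : Set P)
  let A := P ⧸ I₀
  have hI₀ : ∀ a ∈ I₀, π a = 0 := fun a ha => (Ideal.span_le.mpr hGker) ha
  let πb : A →ₐ[R] S := Ideal.Quotient.liftₐ I₀ π hI₀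
  have hA : Algebra.FinitePresentation R A := Algebra.FinitePresentation.quotient ⟨G, rfl⟩
  let Fb : A := algebraMap R A f
  have hFb : πb.toRingHom Fb = algebraMap R S f := πb.commutes f
  let S' := Localization.Away (algebraMap R S f)
  have : IsLocalization.Away (πb.toRingHom Fb) S' := by
    rw [hFb]; infer_instance
  let ψ : Localization.Away Fb →+* S' :=
    IsLocalization.Away.map (Localization.Away Fb) S' πb.toRingHom Fb
  have hψinj : Injective ψ := by
    rw [IsLocalization.Away.map_injective_iff]
    intro a ha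
    obtain ⟨p, rfl⟩ := Ideal.Quotient.mk_surjective a
    have hp : p ∈ RingHom.ker (π : P →+* S) := by
      rw [RingHom.mem_ker]; exact ha
    obtain ⟨k, hk⟩ := hG p hp
    refine ⟨k, ?_⟩
    have : Fb = Ideal.Quotient.mk I₀ (C f) := rfl
    rw [this, ← map_pow, ← map_mul, Ideal.Quotient.eq_zero_iff_mem]
    exact hk
  have hψsurj : Surjective ψ := by
    rw [IsLocalization.Away.map_surjective_iff]
    intro a
    obtain ⟨p, rfl⟩ := hπ a
    refine ⟨Ideal.Quotient.mk I₀ p, 0, ?_⟩
    rw [pow_zero, one_mul]
    exact Ideal.Quotient.liftₐ_apply I₀ π hI₀ _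
  have h1 : @RingHom.FinitePresentation (Localization.Away f) (Localization.Away (algebraMap R A f))
      _ _ (Localization.awayMap (algebraMap R A) f) := by
    have h0 := RingHom.finitePresentation_localizationPreserves.away (algebraMap R A) f
      (Localization.Away f) (Localization.Away (algebraMap R A f))
      (RingHom.finitePresentation_algebraMap.mpr hA)
    exact h0
  have h2 : ψ.FinitePresentation :=
    .of_surjective ψ hψsurj
      (by rw [(RingHom.injective_iff_ker_eq_bot ψ).mp hψinj]; exact Submodule.fg_bot)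
  have hcomp : ψ.comp (Localization.awayMap (algebraMap R A) f) =
      Localization.awayMap (algebraMap R S) f := by
    apply IsLocalization.ringHom_ext (Submonoid.powers f)
    ext r
    simp only [RingHom.comp_apply, Localization.awayMap, IsLocalization.Away.map,
      IsLocalization.map_eq, ψ]
    rw [IsLocalization.map_eq]
    exact congrArg (algebraMap S S') (πb.commutes r)
  rw [← hcomp]
  exact h2.comp h1

end Transfer

theorem main (R S : Type u) [CommRing R] [IsReduced R] [CommRing S]
    [Algebra R S] [Algebra.FiniteType R S] (M : Type u) [AddCommGroup M] [Module S M] [Module R M]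
    [IsScalarTower R S M] [Module.Finite S M] :
    ∃ U : Set (PrimeSpectrum R), IsOpen U ∧ Dense U ∧ ∀ u ∈ U, ∃ f : R, f ∉ u.asIdeal ∧
      (PrimeSpectrum.basicOpen f : Set (PrimeSpectrum R)) ⊆ U ∧
      Module.Free (Localization.Away f) (LocalizedModule (Submonoid.powers f) M) ∧
      Module.Free (Localization.Away f) (LocalizedModule (Submonoid.powers f) S) ∧
      (Localization.awayMap (algebraMap R S) f).FinitePresentation ∧
      Module.FinitePresentation (Localization.Away (algebraMap R S f))
        (LocalizedModule (Submonoid.powers (algebraMap R S f)) M) := by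
  classical
  obtain ⟨n, π, hπ⟩ := Algebra.FiniteType.iff_quotient_mvPolynomial''.mp ‹Algebra.FiniteType R S›
  obtain ⟨k, s, hs⟩ := Module.Finite.exists_fin (R := S) (M := M)
  obtain ⟨l, hl⟩ := exists_ideals R S k M s hs
  let m : MonomialOrder (Fin n) := MonomialOrder.lex
  let P := MvPolynomial (Fin n) R
  let L : List (Ideal P) := RingHom.ker (π : P →+* S) :: l.map (Ideal.comap (π : P →+* S))
  let good : R → Prop := fun f =>
      Module.Free (Localization.Away f) (LocalizedModule (Submonoid.powers f) M) ∧
      Module.Free (Localization.Away f) (LocalizedModule (Submonoid.powers f) S) ∧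
      (Localization.awayMap (algebraMap R S) f).FinitePresentation ∧
      Module.FinitePresentation (Localization.Away (algebraMap R S f))
        (LocalizedModule (Submonoid.powers (algebraMap R S f)) M)
  have hCf : ∀ f : R, (π : P →+* S) (C f) = algebraMap R S f := fun f => π.commutes f
  have hgood : ∀ f, (∀ J ∈ L, Mono m f J) → good f := by
    intro f hf
    have hker := hf _ (List.mem_cons_self)
    have hl' : ∀ J ∈ l, FreeAway f (S ⧸ J) ∧ FGAway (algebraMap R S f) J := by
      intro J hJ
      have hJ' : Mono m f (J.comap (π : P →+* S)) :=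
        hf _ (List.mem_cons_of_mem _ (List.mem_map_of_mem hJ))
      constructor
      · refine freeAway_of_mono (m := m)
          (((Submodule.mkQ J).restrictScalars R) ∘ₗ π.toLinearMap) ?_ _ ?_ f hJ'
        · exact (Submodule.mkQ_surjective J).comp hπ
        · intro p
          change Submodule.mkQ J (π p) = 0 ↔ _
          rw [Submodule.mkQ_apply, Submodule.Quotient.mk_eq_zero]
          rfl
      · rw [← hCf]
        exact FGAway.map (π : P →+* S) hπ (fgAway_of_mono (m := m) _ f hJ')
    obtain ⟨hM1, hM2⟩ := hl f hl'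
    have hS1 : FreeAway f S := by
      refine freeAway_of_mono (m := m) π.toLinearMap hπ _ ?_ f hker
      intro p
      rw [RingHom.mem_ker]
      rfl
    exact ⟨hM1.free, hS1.free,
      finitePresentation_awayMap π hπ f (fgAway_of_mono (m := m) _ f hker), hM2⟩
  refine ⟨⋃ f ∈ {f | good f}, (PrimeSpectrum.basicOpen f : Set (PrimeSpectrum R)),
    isOpen_biUnion (fun f _ => (PrimeSpectrum.basicOpen f).isOpen), ?_, ?_⟩
  · rw [dense_iff_inter_open]
    rintro V hV ⟨x, hx⟩
    obtain ⟨_, ⟨g, rfl⟩, hxg, hgV⟩ :=
      PrimeSpectrum.isTopologicalBasis_basic_opens.exists_subset_of_mem_open hx hV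
    change x ∈ (PrimeSpectrum.basicOpen g : Set (PrimeSpectrum R)) at hxg
    change (PrimeSpectrum.basicOpen g : Set (PrimeSpectrum R)) ⊆ V at hgV
    have hgn : ¬ IsNilpotent g := by
      intro hn
      have : PrimeSpectrum.basicOpen g = ⊥ := PrimeSpectrum.basicOpen_eq_bot_iff g |>.mpr hn
      rw [this] at hxg
      exact hxg
    obtain ⟨h, hh, hmono⟩ := exists_mono_list m L g hgn
    have hne : PrimeSpectrum.basicOpen (g * h) ≠ ⊥ := by
      rw [Ne, PrimeSpectrum.basicOpen_eq_bot_iff]; exact hh
    obtain ⟨y, hy⟩ : ((PrimeSpectrum.basicOpen (g * h) : TopologicalSpace.Opens _) :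
        Set (PrimeSpectrum R)).Nonempty := by
      rw [Set.nonempty_iff_ne_empty]
      intro h0
      exact hne (TopologicalSpace.Opens.ext h0)
    refine ⟨y, hgV ?_, ?_⟩
    · have : PrimeSpectrum.basicOpen (g * h) ≤ PrimeSpectrum.basicOpen g :=
        PrimeSpectrum.basicOpen_mul_le_left g h
      exact this hy
    · exact Set.mem_biUnion (hgood _ hmono) hy
  · intro u hu
    simp only [Set.mem_iUnion, exists_prop] at hu
    obtain ⟨f, hf, huf⟩ := hu
    exact ⟨f, huf, Set.subset_biUnion_of_mem (u := fun f =>
      (PrimeSpectrum.basicOpen f : Set (PrimeSpectrum R))) hf, hf⟩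

end Groth.Agent.Lib.Helper24.GenFreeRed
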