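import Mathlib
import Groth.Agent.Lib.Helper24.GenFreeRed.Main

/-!
# Generic predicates: simultaneous generic flatness for finitely many algebras
-/

universe u

namespace Groth.Agent.Lib.Helper24.GenFreeRed

open MvPolynomial Function

variable {R : Type u} [CommRing R]

/-- A predicate on elements which holds "generically" and is stable under multiplication. -/
structure IsGenPred (𝒢 : R → Prop) : Prop where
  dense : ∀ g, ¬ IsNilpotent g → ∃ h, ¬ IsNilpotent (g * h) ∧ 𝒢 (g * h)
  mul : ∀ f h, 𝒢 f → 𝒢 (f * h)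

theorem IsGenPred.true : IsGenPred (fun _ : R => True) :=
  ⟨fun g hg => ⟨1, by rwa [mul_one], trivial⟩, fun _ _ _ => trivial⟩

theorem IsGenPred.and {𝒢₁ 𝒢₂ : R → Prop} (h₁ : IsGenPred 𝒢₁) (h₂ : IsGenPred 𝒢₂) :
    IsGenPred (fun f => 𝒢₁ f ∧ 𝒢₂ f) := by
  refine ⟨fun g hg => ?_, fun f h hf => ⟨h₁.mul f h hf.1, h₂.mul f h hf.2⟩⟩
  obtain ⟨a, ha, hga⟩ := h₁.dense g hg
  obtain ⟨b, hb, hgb⟩ := h₂.dense (g * a) ha
  exact ⟨a * b, by rwa [← mul_assoc], by rw [← mul_assoc]; exact ⟨h₁.mul _ _ hga, hgb⟩⟩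

theorem IsGenPred.finset {ι : Type*} (s : Finset ι) (𝒢 : ι → R → Prop)
    (h : ∀ i ∈ s, IsGenPred (𝒢 i)) : IsGenPred (fun f => ∀ i ∈ s, 𝒢 i f) := by
  classical
  induction s using Finset.induction_on with
  | empty => exact ⟨fun g hg => ⟨1, by rwa [mul_one], by simp⟩, fun _ _ _ => by simp⟩
  | insert a s ha ih =>
    have h1 := (h a (Finset.mem_insert_self a s)).and
      (ih (fun i hi => h i (Finset.mem_insert_of_mem hi)))
    refine ⟨fun g hg => ?_, fun f k hf => ?_⟩
    · obtain ⟨k, hk, hgk⟩ := h1.dense g hg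
      refine ⟨k, hk, ?_⟩
      intro i hi
      rcases Finset.mem_insert.mp hi with rfl | hi
      · exact hgk.1
      · exact hgk.2 i hi
    · intro i hi
      exact (h i hi).mul f k (hf i hi)

/-- version of `FreeAway.free` for an arbitrary localization. -/
theorem FreeAway.free' {f : R} {M : Type u} [AddCommGroup M] [Module R M] (h : FreeAway f M)
    {M' : Type u} [AddCommGroup M'] [Module R M'] (ℓ : M →ₗ[R] M')
    [IsLocalizedModule (Submonoid.powers f) ℓ] (R' : Type u) [CommRing R'] [Algebra R R']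
    [IsLocalization.Away f R'] [Module R' M'] [IsScalarTower R R' M'] : Module.Free R' M' := by
  obtain ⟨F, _, _, _, ψ, hspan, hker⟩ := h
  let S := Submonoid.powers f
  let g : F →ₗ[R] M' := ℓ ∘ₗ ψ
  have hg : IsLocalizedModule S g := by
    refine ⟨IsLocalizedModule.map_units ℓ, ?_, ?_⟩
    · intro y
      obtain ⟨⟨m, s⟩, hms⟩ := IsLocalizedModule.surj S ℓ y
      obtain ⟨k, c, hc⟩ := hspan m
      refine ⟨(c, ⟨f ^ k, k, rfl⟩ * s), ?_⟩
      change (⟨f ^ k, k, rfl⟩ * s : S) • y = ℓ (ψ c)
      rw [← hc, mul_smul, hms, map_smul]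
      rfl
    · intro x₁ x₂ h12
      obtain ⟨u, hu⟩ := IsLocalizedModule.exists_of_eq (S := S) (f := ℓ) h12
      have h0 : ψ (u • (x₁ - x₂)) = 0 := by
        rw [LinearMap.map_smul_of_tower, map_sub, smul_sub, hu, sub_self]
      obtain ⟨k, hk⟩ := hker _ h0
      refine ⟨⟨f ^ k, k, rfl⟩ * u, ?_⟩
      rw [← sub_eq_zero, ← smul_sub, mul_smul]
      exact hk
  exact Module.free_of_isLocalizedModule S g

theorem exists_genPred [IsReduced R] {A : Type u} [CommRing A] (φ : R →+* A) (hφ : φ.FiniteType) :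
    ∃ 𝒢 : R → Prop, IsGenPred 𝒢 ∧ ∀ f, 𝒢 f →
      (Localization.awayMap φ f).Flat ∧ (Localization.awayMap φ f).FinitePresentation := by
  classical
  algebraize [φ]
  obtain ⟨n, π, hπ⟩ := Algebra.FiniteType.iff_quotient_mvPolynomial''.mp ‹Algebra.FiniteType R A›
  let m : MonomialOrder (Fin n) := MonomialOrder.lex
  let P := MvPolynomial (Fin n) R
  let J : Ideal P := RingHom.ker (π : P →+* A)
  refine ⟨fun f => Mono m f J, ⟨fun g hg => exists_mono (m := m) J g hg,
    fun f h hf => hf.mul h⟩, fun f hf => ?_⟩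
  have hA1 : FreeAway f A := by
    refine freeAway_of_mono (m := m) π.toLinearMap hπ _ ?_ f hf
    intro p
    rw [RingHom.mem_ker]
    rfl
  refine ⟨?_, finitePresentation_awayMap π hπ f (fgAway_of_mono (m := m) _ f hf)⟩
  -- flatness
  let R' := Localization.Away f
  let A' := Localization.Away (algebraMap R A f)
  let _ : Algebra R' A' := (Localization.awayMap (algebraMap R A) f).toAlgebra
  have : IsScalarTower R R' A' := IsScalarTower.of_algebraMap_eq' (by
    ext r
    change algebraMap R A' r = Localization.awayMap (algebraMap R A) f (algebraMap R R' r)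
    rw [IsScalarTower.algebraMap_apply R A A']
    simp only [Localization.awayMap, IsLocalization.Away.map]
    exact (IsLocalization.map_eq _ r).symm)
  have : IsLocalization (Algebra.algebraMapSubmonoid A (Submonoid.powers f)) A' := by
    rw [Algebra.algebraMapSubmonoid_powers]
    infer_instance
  have : IsLocalizedModule (Submonoid.powers f) (IsScalarTower.toAlgHom R A A').toLinearMap :=
    (isLocalizedModule_iff_isLocalization).mpr inferInstance
  have hfree : Module.Free R' A' :=
    hA1.free' (IsScalarTower.toAlgHom R A A').toLinearMap R'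
  change Module.Flat R' A'
  infer_instance

end Groth.Agent.Lib.Helper24.GenFreeRed
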