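import Mathlib
import Groth.Agent.Lib.Helper24.GenFreeRed.GenPred

/-!
# Generic flatness over a reduced base (scheme version)
-/

universe u

open AlgebraicGeometry CategoryTheory Limits TopologicalSpace

namespace Groth.Agent.Lib.Helper24.GenFreeRed

variable {X S : Scheme.{u}} (f : X ⟶ S)

theorem exists_genPred_affine [IsReduced S] [LocallyOfFiniteType f] [QuasiCompact f]
    (V : S.affineOpens) :
    ∃ 𝒢 : Γ(S, V.1) → Prop, IsGenPred 𝒢 ∧ ∀ r, 𝒢 r → ∀ x : X, f x ∈ S.basicOpen r →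
      ∃ (W : X.affineOpens) (_ : x ∈ W.1) (e : W.1 ≤ f ⁻¹ᵁ S.basicOpen r),
        RingHom.Flat (f.appLE (S.basicOpen r) W.1 e).hom ∧
        RingHom.FinitePresentation (f.appLE (S.basicOpen r) W.1 e).hom := by
  classical
  have hc : IsCompact (X := X) (f ⁻¹ᵁ V.1) := QuasiCompact.isCompact_preimage _ V.1.isOpen V.2.isCompact
  obtain ⟨s, hs, hsV⟩ := isCompact_iff_finite_and_eq_biUnion_affineOpens.mp hc
  have hle : ∀ W ∈ s, (W : X.Opens) ≤ f ⁻¹ᵁ V.1 := by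
    intro W hW
    rw [hsV]
    exact le_iSup₂ (f := fun (i : X.affineOpens) (_ : i ∈ s) => (i : X.Opens)) W hW
  have hft : ∀ (W : X.affineOpens) (hW : W ∈ s), (f.appLE V.1 W.1 (hle W hW)).hom.FiniteType :=
    fun W hW => HasRingHomProperty.appLE (P := @LocallyOfFiniteType) f inferInstance V W (hle W hW)
  have hex : ∀ (W : X.affineOpens) (hW : W ∈ s), ∃ 𝒢 : Γ(S, V.1) → Prop, IsGenPred 𝒢 ∧ ∀ r, 𝒢 r →
      (Localization.awayMap (f.appLE V.1 W.1 (hle W hW)).hom r).Flat ∧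
      (Localization.awayMap (f.appLE V.1 W.1 (hle W hW)).hom r).FinitePresentation :=
    fun W hW => exists_genPred _ (hft W hW)
  choose 𝒢W h𝒢W hgood using hex
  let 𝒢 : Γ(S, V.1) → Prop := fun r => ∀ W ∈ hs.toFinset, ∀ hW : W ∈ s, 𝒢W W hW r
  have h𝒢 : IsGenPred 𝒢 := by
    apply IsGenPred.finset hs.toFinset (fun W r => ∀ hW : W ∈ s, 𝒢W W hW r)
    intro W hW
    have hW' : W ∈ s := hs.mem_toFinset.mp hW
    refine ⟨fun g hg => ?_, fun a b hab hW'' => (h𝒢W W hW'').mul a b (hab hW'')⟩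
    obtain ⟨h, hh, hgh⟩ := (h𝒢W W hW').dense g hg
    exact ⟨h, hh, fun _ => hgh⟩
  refine ⟨𝒢, h𝒢, ?_⟩
  intro r hr x hx
  have hxV : x ∈ f ⁻¹ᵁ V.1 := S.basicOpen_le r hx
  rw [hsV] at hxV
  simp only [Opens.mem_iSup] at hxV
  obtain ⟨W, hWs, hxW⟩ := hxV
  have e := hle W hWs
  let φ := f.appLE V.1 W.1 e
  have hW'eq : X.basicOpen (φ r) = W.1 ⊓ f ⁻¹ᵁ (S.basicOpen r) := Scheme.basicOpen_appLE f W.1 V.1 e r
  have hW'aff : IsAffineOpen (X.basicOpen (φ r)) := W.2.basicOpen _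
  have e' : X.basicOpen (φ r) ≤ f ⁻¹ᵁ S.basicOpen r := by rw [hW'eq]; exact inf_le_right
  refine ⟨⟨X.basicOpen (φ r), hW'aff⟩, ?_, e', ?_⟩
  · change x ∈ X.basicOpen (φ r)
    rw [hW'eq]; exact ⟨hxW, hx⟩
  · have hg := hgood W hWs r (hr W (hs.mem_toFinset.mpr hWs) hWs)
    have heq := IsAffineOpen.appLE_eq_away_map f V.2 W.2 e r
    let _ := V.2.isLocalization_basicOpen r
    let _ := W.2.isLocalization_basicOpen (f.appLE V.1 W.1 e r)
    change RingHom.Flat (f.appLE (S.basicOpen r) (X.basicOpen (f.appLE V.1 W.1 e r)) e').hom ∧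
      RingHom.FinitePresentation (f.appLE (S.basicOpen r) (X.basicOpen (f.appLE V.1 W.1 e r)) e').hom
    rw [heq]
    exact ⟨(RingHom.RespectsIso.isLocalization_away_iff RingHom.Flat.respectsIso _ _ _ r).mp hg.1,
      (RingHom.RespectsIso.isLocalization_away_iff RingHom.finitePresentation_respectsIso
        _ _ _ r).mp hg.2⟩

/-- A ring-hom property holds for `f ∣_ U` as soon as it holds on suitable affine charts of `f`
over affine opens contained in `U`. -/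
theorem restrict_of_local {P : MorphismProperty Scheme.{u}}
    {Q : ∀ {R T : Type u} [CommRing R] [CommRing T], (R →+* T) → Prop} [HasRingHomProperty P Q]
    (hQ : RingHom.StableUnderCompositionWithLocalizationAwaySource Q) (U : S.Opens)
    (H : ∀ x : X, f x ∈ U → ∃ (D : S.affineOpens) (_ : D.1 ≤ U) (W : X.affineOpens)
      (_ : x ∈ W.1) (e : W.1 ≤ f ⁻¹ᵁ D.1), Q (f.appLE D.1 W.1 e).hom) : P (f ∣_ U) := by
  rw [HasRingHomProperty.iff_exists_appLE (P := P) hQ]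
  intro x
  obtain ⟨D, hDU, W, hxW, e, hQe⟩ := H x.1 x.2
  have hWU : W.1 ≤ f ⁻¹ᵁ U := e.trans (fun y hy => hDU hy)
  have hD' : IsAffineOpen (U.ι ⁻¹ᵁ D.1) :=
    D.2.preimage_of_isOpenImmersion U.ι (by rw [Scheme.Opens.opensRange_ι]; exact hDU)
  have hW' : IsAffineOpen ((f ⁻¹ᵁ U).ι ⁻¹ᵁ W.1) :=
    W.2.preimage_of_isOpenImmersion (f ⁻¹ᵁ U).ι (by rw [Scheme.Opens.opensRange_ι]; exact hWU)
  have e' : (f ⁻¹ᵁ U).ι ⁻¹ᵁ W.1 ≤ (f ∣_ U) ⁻¹ᵁ (U.ι ⁻¹ᵁ D.1) := by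
    intro y hy
    change ((f ∣_ U) y).1 ∈ D.1
    rw [morphismRestrict_base_coe]
    exact e hy
  refine ⟨⟨U.ι ⁻¹ᵁ D.1, hD'⟩, ⟨(f ⁻¹ᵁ U).ι ⁻¹ᵁ W.1, hW'⟩, hxW, e', ?_⟩
  rw [morphismRestrict_appLE]
  have h1 : U.ι ''ᵁ (U.ι ⁻¹ᵁ D.1) = D.1 := by
    rw [Scheme.Hom.image_preimage_eq_opensRange_inf, Scheme.Opens.opensRange_ι]
    exact inf_eq_right.mpr hDU
  have h2 : (f ⁻¹ᵁ U).ι ''ᵁ ((f ⁻¹ᵁ U).ι ⁻¹ᵁ W.1) = W.1 := by
    rw [Scheme.Hom.image_preimage_eq_opensRange_inf, Scheme.Opens.opensRange_ι]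
    exact inf_eq_right.mpr hWU
  exact (Scheme.Hom.appLE_congr f _ h1 h2 (fun φ => Q φ.hom)).mpr hQe

theorem main_sch [IsReduced S] [LocallyOfFiniteType f] [QuasiCompact f] :
    ∃ U : S.Opens, Dense (U : Set ↑S) ∧ Flat (f ∣_ U) ∧ LocallyOfFinitePresentation (f ∣_ U) := by
  choose 𝒢 h𝒢 hloc using exists_genPred_affine f
  let U : S.Opens := ⨆ (p : Σ V : S.affineOpens, {r : Γ(S, V.1) // 𝒢 V r}), S.basicOpen p.2.1
  have hU : ∀ (V : S.affineOpens) (r : Γ(S, V.1)), 𝒢 V r → S.basicOpen r ≤ U :=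
    fun V r hr => le_iSup (fun p : Σ V : S.affineOpens, {r : Γ(S, V.1) // 𝒢 V r} =>
      S.basicOpen p.2.1) ⟨V, r, hr⟩
  have hlocal : ∀ x : X, f x ∈ U → ∃ (D : S.affineOpens) (_ : D.1 ≤ U) (W : X.affineOpens)
      (_ : x ∈ W.1) (e : W.1 ≤ f ⁻¹ᵁ D.1), RingHom.Flat (f.appLE D.1 W.1 e).hom ∧
        RingHom.FinitePresentation (f.appLE D.1 W.1 e).hom := by
    intro x hx
    simp only [U, Opens.mem_iSup] at hx
    obtain ⟨⟨V, r, hr⟩, hxr⟩ := hx
    obtain ⟨W, hxW, e, hW⟩ := hloc V r hr x hxr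
    exact ⟨⟨S.basicOpen r, V.2.basicOpen r⟩, hU V r hr, W, hxW, e, hW⟩
  refine ⟨U, ?_, ?_, ?_⟩
  · rw [dense_iff_inter_open]
    rintro O hO ⟨x, hx⟩
    have hx' : x ∈ (⟨O, hO⟩ : S.Opens) := hx
    obtain ⟨V, hV, hxV, hVO⟩ := Opens.isBasis_iff_nbhd.mp S.isBasis_affineOpens hx'
    have h1 : ¬ IsNilpotent (1 : Γ(S, V)) := by
      intro hn
      have h0 : (1 : Γ(S, V)) = 0 := hn.eq_zero
      have : S.basicOpen (1 : Γ(S, V)) = V := S.basicOpen_of_isUnit isUnit_one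
      rw [h0, Scheme.basicOpen_zero] at this
      rw [← this] at hxV
      exact hxV
    obtain ⟨h, hh, hgh⟩ := (h𝒢 ⟨V, hV⟩).dense 1 h1
    have hne : S.basicOpen (1 * h : Γ(S, V)) ≠ ⊥ := by
      rw [Ne, basicOpen_eq_bot_iff]
      intro h0
      exact hh (h0 ▸ IsNilpotent.zero)
    obtain ⟨y, hy⟩ : ((S.basicOpen (1 * h : Γ(S, V)) : S.Opens) : Set S).Nonempty := by
      rw [Set.nonempty_iff_ne_empty]
      intro h0
      exact hne (Opens.ext h0)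
    exact ⟨y, hVO (S.basicOpen_le _ hy), hU ⟨V, hV⟩ _ hgh hy⟩
  · refine restrict_of_local f (P := @Flat) (Q := RingHom.Flat)
      (RingHom.Flat.stableUnderComposition.stableUnderCompositionWithLocalizationAway
        RingHom.Flat.holdsForLocalizationAway).left U ?_
    intro x hx
    obtain ⟨D, hD, W, hxW, e, h⟩ := hlocal x hx
    exact ⟨D, hD, W, hxW, e, h.1⟩
  · refine restrict_of_local f (P := @LocallyOfFinitePresentation)
      (Q := RingHom.FinitePresentation)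
      (RingHom.finitePresentation_stableUnderComposition.stableUnderCompositionWithLocalizationAway
        RingHom.finitePresentation_holdsForLocalizationAway).left U ?_
    intro x hx
    obtain ⟨D, hD, W, hxW, e, h⟩ := hlocal x hx
    exact ⟨D, hD, W, hxW, e, h.2⟩

end Groth.Agent.Lib.Helper24.GenFreeRed
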